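import Cfsg.Agent.Lib.Spor.CoJ2.Cands

/-!
The centraliser in the automorphism group of the rank 24 lattice of an element cycling six given orbits has at most
`196560 · 25 · 2` members.
-/

set_option autoImplicit false
set_option maxRecDepth 100000

noncomputable section

namespace Cfsg.Agent.Spor.CoJ2

open Cfsg Cfsg.Agent.J2Cert Cfsg.Agent.Spor.Leech

/-- All points of the chosen orbits are short lattice vectors. -/
theorem orb_chk : ((List.range 6).all fun j => (List.range 4).all fun i =>
    inL (ofList (orbL j i)) && decide (sqNorm (ofList (orbL j i)) = 32)) = true := by decide +kernel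

theorem orb_spec (j : Fin 6) (i : Fin 4) :
    inL (ofList (orbL j i)) = true ∧ sqNorm (ofList (orbL j i)) = 32 := by
  have h := List.all_eq_true.1 (List.all_eq_true.1 orb_chk j (List.mem_range.2 j.2)) i (List.mem_range.2 i.2)
  rwa [Bool.and_eq_true, decide_eq_true_eq] at h

/-- A point of a chosen orbit. -/
def pnt (j : Fin 6) (i : Fin 4) : leechLattice := ⟨ofList (orbL j i), mem_of_inL (orb_spec j i).1⟩

theorem pnt_norm (j : Fin 6) (i : Fin 4) : sqNorm (pnt j i : Vec) = 32 := (orb_spec j i).2

/-- The products with the four points of an orbit agree. -/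
def sameDots (j : ℕ) (l m : List ℤ) : Bool :=
  (List.range 4).all fun i => decide (dotInt (ofList (orbL j i)) (ofList l) = dotInt (ofList (orbL j i)) (ofList m))

theorem cand_products : ∀ j : Fin 6, j.val ≠ 0 →
    (candL.all fun bc => decide (dotInt (ofList bc.1) (ofList (orbL j 0)) = bc.2)) = true := by decide +kernel

theorem cand_len : candT.length = 25 := by decide +kernel

theorem two_left : (candT.filter fun l => sameDots 1 l (orbL 2 0)).length = 2 := by decide +kernel

theorem one_left : ∀ j : Fin 6, 3 ≤ j.val →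
    (candT.filter fun l => sameDots 1 l (orbL j 0) && sameDots 2 l (orbL j 0)) = [orbL j 0] := by decide +kernel

theorem inv_chk : ∀ p q : GolayPt, ((List.range 6).flatMap fun j => (List.range 4).map fun i =>
    (invT.getD (Golay.idx p) []).getD (4 * j + i) 0 * ofList (orbL j i) q).sum = if q = p then invD else 0 := by
  decide +kernel

/-- An automorphism fixing all the chosen points is trivial. -/
theorem eq_one_of_fix {g : Co0} (h : ∀ j i, g • pnt j i = pnt j i) : g = 1 := by
  refine Subtype.ext (Equiv.ext fun x => Subtype.ext (funext fun p => ?_))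
  show ((g • x : leechLattice) : Vec) p = (x : Vec) p
  have key : ∀ j i, ∑ q, (pnt j i : Vec) q * ((g • x : leechLattice) : Vec) q =
      ∑ q, (pnt j i : Vec) q * (x : Vec) q := fun j i => by
    have := co_dot g (pnt j i) x
    rwa [h] at this
  set c : Fin 6 → Fin 4 → ℤ := fun j i => (invT.getD (Golay.idx p) []).getD (4 * j.val + i.val) 0
  have hc : ∀ q, ∑ j : Fin 6, ∑ i : Fin 4, c j i * (pnt j i : Vec) q = if q = p then invD else 0 := fun q => by
    rw [← inv_chk p q]
    simp [Fin.sum_univ_succ, List.range_succ, c, pnt]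
    ring
  have e : ∀ y : Vec, invD * y p = ∑ j : Fin 6, ∑ i : Fin 4, c j i * ∑ q, (pnt j i : Vec) q * y q := fun y => by
    calc invD * y p = ∑ q, (if q = p then invD else 0) * y q := by simp
      _ = ∑ q, (∑ j : Fin 6, ∑ i : Fin 4, c j i * (pnt j i : Vec) q) * y q := by simp only [hc]
      _ = _ := by
        simp only [Finset.sum_mul, Finset.mul_sum, mul_assoc]
        rw [Finset.sum_comm]
        exact Finset.sum_congr rfl fun j _ => Finset.sum_comm
  have h2 : invD * ((g • x : leechLattice) : Vec) p = invD * (x : Vec) p := by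
    rw [e, e]; simp only [key]
  exact mul_left_cancel₀ (by decide +kernel) h2

variable {C : Subgroup Co0} {a : Co0}

theorem fix_orbit (hc : ∀ g ∈ C, a * g = g * a) (ha : ∀ (j : Fin 6) (i : Fin 3), a • pnt j i.castSucc = pnt j i.succ)
    {g : Co0} (hg : g ∈ C) {j : Fin 6} (h : g • pnt j 0 = pnt j 0) (i : Fin 4) : g • pnt j i = pnt j i := by
  induction i using Fin.induction with
  | zero => exact h
  | succ k ih => rw [← ha j k, ← mul_smul, ← hc g hg, mul_smul, ih]

theorem dots_fixed {g : Co0} {j : Fin 6} (hf : ∀ i, g • pnt j i = pnt j i) (x : leechLattice) (i : Fin 4) :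
    dotInt (ofList (orbL j i)) ((g • x : leechLattice) : Vec) = dotInt (ofList (orbL j i)) (x : Vec) := by
  have := co_dot g (pnt j i) x
  rw [hf] at this
  exact this

theorem image_cand {g : Co0} (h0 : ∀ i, g • pnt 0 i = pnt 0 i) {j : Fin 6} (hj : j.val ≠ 0) :
    ∃ l ∈ candT, ((g • pnt j 0 : leechLattice) : Vec) = ofList l := by
  refine mem_candT ((co_norm g _).trans (pnt_norm j 0)) fun bc hbc => ?_
  have h := of_decide_eq_true (List.all_eq_true.1 (cand_products j hj) bc hbc)
  simp only [candL, List.mem_cons, List.not_mem_nil, or_false] at hbc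
  rcases hbc with rfl | rfl | rfl | rfl
  · exact (dots_fixed h0 (pnt j 0) 0).trans h
  · exact (dots_fixed h0 (pnt j 0) 1).trans h
  · exact (dots_fixed h0 (pnt j 0) 2).trans h
  · exact (dots_fixed h0 (pnt j 0) 3).trans h

theorem sameDots_of_fixed {g : Co0} {j k : Fin 6} (hf : ∀ i, g • pnt j i = pnt j i) {l : List ℤ}
    (hl : ((g • pnt k 0 : leechLattice) : Vec) = ofList l) : sameDots j l (orbL k 0) = true := by
  refine List.all_eq_true.2 fun i hi => decide_eq_true ?_
  rw [← hl]
  exact dots_fixed hf (pnt k 0) ⟨i, List.mem_range.1 hi⟩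

theorem ncard_le_list {s : Set leechLattice} (L : List (List ℤ)) (h : ∀ x ∈ s, ∃ l ∈ L, (x : Vec) = ofList l) :
    s.ncard ≤ L.length := by
  classical
  rw [← Set.ncard_image_of_injective s Subtype.val_injective]
  refine (Set.ncard_le_ncard (t := ((L.map ofList).toFinset : Set Vec)) ?_ (Finset.finite_toSet _)).trans ?_
  · rintro y ⟨x, hx, rfl⟩
    obtain ⟨l, hl, e⟩ := h x hx
    simp only [Finset.mem_coe, List.mem_toFinset, List.mem_map]
    exact ⟨l, hl, e.symm⟩
  · rw [Set.ncard_coe_finset]
    exact (List.toFinset_card_le _).trans (by simp)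

theorem card_le_step {H α : Type*} [Group H] [Finite H] [MulAction H α] (x : α) {m n : ℕ}
    (ho : (MulAction.orbit H x).ncard ≤ m) (hs : Nat.card (MulAction.stabilizer H x) ≤ n) : Nat.card H ≤ m * n := by
  rw [← Subgroup.card_mul_index (MulAction.stabilizer H x), MulAction.index_stabilizer, mul_comm]
  exact Nat.mul_le_mul ho hs

/-- The bound on the centraliser. -/
theorem card_centralizer_le [Finite Co0] (hc : ∀ g ∈ C, a * g = g * a)
    (ha : ∀ (j : Fin 6) (i : Fin 3), a • pnt j i.castSucc = pnt j i.succ) : Nat.card C ≤ 196560 * (25 * (2 * 1)) := by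
  refine card_le_step (pnt 0 0) ?_ (card_le_step (pnt 1 0) ?_ (card_le_step (pnt 2 0) ?_ ?_))
  · rw [← CrossMaximal.ncard_shell]
    refine Set.ncard_le_ncard ?_ (Set.finite_of_ncard_ne_zero (by rw [CrossMaximal.ncard_shell]; norm_num))
    rintro _ ⟨g, rfl⟩
    exact (co_norm (g : Co0) _).trans (pnt_norm 0 0)
  · rw [← cand_len]
    refine ncard_le_list _ ?_
    rintro _ ⟨g, rfl⟩
    exact image_cand (fix_orbit hc ha g.1.2 g.2) (by decide)
  · rw [← two_left]
    refine ncard_le_list _ ?_
    rintro _ ⟨g, rfl⟩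
    obtain ⟨l, hl, e⟩ := image_cand (j := 2) (fix_orbit hc ha g.1.1.2 g.1.2) (by decide)
    exact ⟨l, List.mem_filter.2 ⟨hl, sameDots_of_fixed (fix_orbit hc ha g.1.1.2 (j := 1) g.2) e⟩, e⟩
  · refine le_of_eq (Subgroup.card_eq_one.2 ((Subgroup.eq_bot_iff_forall _).2 fun g hg => ?_))
    have f0 := fix_orbit hc ha g.1.1.2 (j := 0) g.1.2
    have f1 := fix_orbit hc ha g.1.1.2 (j := 1) g.2
    have f2 := fix_orbit hc ha g.1.1.2 (j := 2) hg
    have hall : ∀ j : Fin 6, ((g.1.1 : Co0) • pnt j 0) = pnt j 0 := fun j => by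
      by_cases h3 : 3 ≤ j.val
      · obtain ⟨l, hl, e⟩ := image_cand f0 (show j.val ≠ 0 by omega)
        have hm : l ∈ [orbL j 0] := one_left j h3 ▸ List.mem_filter.2
          ⟨hl, by rw [Bool.and_eq_true]; exact ⟨sameDots_of_fixed f1 e, sameDots_of_fixed f2 e⟩⟩
        rw [List.mem_singleton] at hm
        exact Subtype.ext (e.trans (congrArg ofList hm))
      · obtain h | h | h : j = 0 ∨ j = 1 ∨ j = 2 := by omega
        · exact h ▸ f0 0
        · exact h ▸ f1 0
        · exact h ▸ f2 0
    exact Subtype.ext (Subtype.ext (Subtype.ext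
      (eq_one_of_fix fun j i => fix_orbit hc ha g.1.1.2 (hall j) i)))

end Cfsg.Agent.Spor.CoJ2

end
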