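import Cfsg.Agent.Lib.Spor.CoJ2.Iso
import Cfsg.Agent.Lib.Spor.Leech.Cert
import Cfsg.Agent.Lib.Spor.Leech.CrossMaximal

/-! Candidate lists for the centraliser of an element of order five. -/

set_option autoImplicit false
set_option maxRecDepth 100000
set_option Elab.async false

noncomputable section

namespace Cfsg.Agent.Spor.CoJ2

open Cfsg Cfsg.Agent.J2Cert Cfsg.Agent.Spor.Leech

/-- The list of a point of a chosen orbit. -/
def orbL (j i : ℕ) : List ℤ := (orbT.getD j []).getD i []

/-- The data of the product condition. -/
def candS : Spec := ⟨[(0, 1997998004), (1, 1997998000), (2, 1997998004), (3, 3999998000), (4, 3998000000), (5, 2000000000), (6, 1998000000), (7, 3998000000), (8, 3997998000), (9, 3997998000), (10, 3998000000), (11, 1999998000), (12, 2000000000), (13, 3999998000), (14, 3999998000), (15, 3996000000), (16, 1999998000), (17, 2000000000), (18, 3998000000), (19, 0), (20, 3999998000), (21, 2000000000), (22, 1998000000), (23, 1998002000)], [0, 1997998000, 1997998004, 1998000000, 1998002000, 1999998000, 2000000000, 3996000000, 3997998000, 3998000000, 3999998000], 2998999000, 4003995992, 0, 4011988008⟩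

/-- The product condition. -/
def candL : List (List ℤ × ℤ) := [(orbL 0 0, 16), (orbL 0 1, -8), (orbL 0 2, 8), (orbL 0 3, 0)]

/-- The packed candidates. -/
def candEnc : List ℕ := candT.map fun l => encV (ofList l)

theorem candS_ok : chkSpec (combU candL) (combC candL) candS = true := by decide +kernel

theorem cand_odd0 : ((oddPart candS 0).all fun x => candEnc.any (Nat.beq x)) = true := by decide +kernel

theorem cand_odd1 : ((oddPart candS 1).all fun x => candEnc.any (Nat.beq x)) = true := by decide +kernel

theorem cand_odd2 : ((oddPart candS 2).all fun x => candEnc.any (Nat.beq x)) = true := by decide +kernel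

theorem cand_odd3 : ((oddPart candS 3).all fun x => candEnc.any (Nat.beq x)) = true := by decide +kernel

theorem cand_odd4 : ((oddPart candS 4).all fun x => candEnc.any (Nat.beq x)) = true := by decide +kernel

theorem cand_odd5 : ((oddPart candS 5).all fun x => candEnc.any (Nat.beq x)) = true := by decide +kernel

theorem cand_odd6 : ((oddPart candS 6).all fun x => candEnc.any (Nat.beq x)) = true := by decide +kernel

theorem cand_odd7 : ((oddPart candS 7).all fun x => candEnc.any (Nat.beq x)) = true := by decide +kernel

theorem cand_odd8 : ((oddPart candS 8).all fun x => candEnc.any (Nat.beq x)) = true := by decide +kernel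

theorem cand_odd9 : ((oddPart candS 9).all fun x => candEnc.any (Nat.beq x)) = true := by decide +kernel

theorem cand_odd10 : ((oddPart candS 10).all fun x => candEnc.any (Nat.beq x)) = true := by decide +kernel

theorem cand_odd11 : ((oddPart candS 11).all fun x => candEnc.any (Nat.beq x)) = true := by decide +kernel

theorem cand_odd12 : ((oddPart candS 12).all fun x => candEnc.any (Nat.beq x)) = true := by decide +kernel

theorem cand_odd13 : ((oddPart candS 13).all fun x => candEnc.any (Nat.beq x)) = true := by decide +kernel

theorem cand_odd14 : ((oddPart candS 14).all fun x => candEnc.any (Nat.beq x)) = true := by decide +kernel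

theorem cand_odd15 : ((oddPart candS 15).all fun x => candEnc.any (Nat.beq x)) = true := by decide +kernel

theorem cand_oct0 : ((octPart candS 0).all fun x => candEnc.any (Nat.beq x)) = true := by decide +kernel

theorem cand_oct1 : ((octPart candS 1).all fun x => candEnc.any (Nat.beq x)) = true := by decide +kernel

theorem cand_oct2 : ((octPart candS 2).all fun x => candEnc.any (Nat.beq x)) = true := by decide +kernel

theorem cand_pair : ((pairList candS).all fun x => candEnc.any (Nat.beq x)) = true := by decide +kernel

theorem mem_candEnc {x : ℕ} (h : x ∈ shortList candS) : x ∈ candEnc := by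
  have key : ∀ L : List ℕ, (L.all fun y => candEnc.any (Nat.beq y)) = true → x ∈ L → x ∈ candEnc := fun L hL hx => by
    obtain ⟨c, hc, e⟩ := List.any_eq_true.1 (List.all_eq_true.1 hL x hx)
    exact Nat.eq_of_beq_eq_true e ▸ hc
  rcases shortList_parts h with ⟨i, hi, hx⟩ | ⟨i, hi, hx⟩ | hx
  · interval_cases i
    · exact key _ cand_odd0 hx
    · exact key _ cand_odd1 hx
    · exact key _ cand_odd2 hx
    · exact key _ cand_odd3 hx
    · exact key _ cand_odd4 hx
    · exact key _ cand_odd5 hx
    · exact key _ cand_odd6 hx
    · exact key _ cand_odd7 hx
    · exact key _ cand_odd8 hx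
    · exact key _ cand_odd9 hx
    · exact key _ cand_odd10 hx
    · exact key _ cand_odd11 hx
    · exact key _ cand_odd12 hx
    · exact key _ cand_odd13 hx
    · exact key _ cand_odd14 hx
    · exact key _ cand_odd15 hx
  · interval_cases i
    · exact key _ cand_oct0 hx
    · exact key _ cand_oct1 hx
    · exact key _ cand_oct2 hx
  · exact key _ cand_pair hx

theorem cand_small : (candT.all fun l => decide (sqNorm (ofList l) ≤ 64)) = true := by decide +kernel

/-- A vector of norm 32 with the prescribed products is one of the candidates. -/
theorem mem_candT {x : leechLattice} (hn : sqNorm (x : Vec) = 32)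
    (hd : ∀ bc ∈ candL, dotInt (ofList bc.1) (x : Vec) = bc.2) : ∃ l ∈ candT, (x : Vec) = ofList l := by
  obtain ⟨l, hl, e⟩ := List.mem_map.1
    (mem_candEnc (mem_shortList (fits_of_chk candS_ok) x.2 hn (dot_comb (x : Vec) hd)))
  refine ⟨l, hl, (encV_inj ?_ (small_of_norm (by rw [hn]; norm_num)) e).symm⟩
  exact small_of_norm (of_decide_eq_true (List.all_eq_true.1 cand_small l hl))

end Cfsg.Agent.Spor.CoJ2

end
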