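import Mathlib.Init
import Cfsg.Agent.Lib.Spor.J2.QDefs

/-! Tables: an isometry from the icosian lattice to the rank 24 lattice, and vectors bounding a centraliser. -/

set_option autoImplicit false
set_option maxRecDepth 100000

noncomputable section

namespace Cfsg.Agent.Spor.CoJ2

open Cfsg.Agent.J2Cert

/-- Eight times the matrix of the isometry. -/
def matT : List (List Int) :=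
  [[0, -2, 1, 1, -1, -3, -2, -6, 0, 0, 1, -5, -1, -1, 0, -2, 0, 2, -1, -1, 1, -1, -2, -2],
    [0, 2, -1, -1, 1, 3, -2, -6, 0, 4, -1, 1, 1, -3, 0, -2, 2, 0, -1, -1, 1, 3, 0, 0],
    [0, -2, 1, -3, 1, 3, 0, 4, 2, 2, -1, -3, -1, -5, 0, -2, 0, -2, -1, -1, -1, -3, 0, -4],
    [0, 2, 1, -3, -1, 1, -2, -2, 0, 0, 1, 3, 3, 3, 0, -2, -2, 0, 1, 1, -1, -3, 0, 0],
    [0, -2, -1, 3, 1, -1, -2, -2, 0, 0, -1, -3, 1, 1, 0, 2, 0, -2, 1, 1, -1, -7, 2, 2],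
    [0, 2, 1, 1, 1, -1, 0, 0, -2, -2, -1, -3, -1, -5, 0, -2, -2, 0, 1, -3, 1, 3, 2, 2],
    [0, -2, -1, -1, -1, 1, 0, 0, 0, 4, -1, -3, -1, -1, -2, -4, 0, 2, 1, 1, -3, -1, 0, 4],
    [0, -2, -1, -1, -1, 1, 0, 0, 0, 0, 3, 5, -1, -5, -2, 0, 0, -2, 1, -3, 1, -1, 0, 0],
    [0, -6, 1, 1, 1, -1, 0, 0, 0, 4, 1, 3, 1, 1, 2, 4, 0, 2, -1, -5, -1, 1, 0, 0],
    [0, -2, 1, 1, -1, -3, 2, -2, 2, 2, -1, 1, 1, 1, -2, -4, 0, 2, -1, -1, 1, -1, 2, 2],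
    [0, -2, -1, -1, -1, 1, 0, 0, 0, 0, -1, 1, -1, -5, 2, 4, 0, 6, 1, 5, 1, -1, 0, 0],
    [-2, 0, -1, -5, 1, -5, 0, 0, 0, 0, 1, 3, -1, -1, 0, -2, 2, 4, 1, 1, -1, -3, 0, 0],
    [0, -2, 1, -3, 1, 3, 0, -4, -2, -6, -1, 1, -1, -1, 0, 2, 0, -2, -1, -1, -1, -3, 0, 4],
    [2, 4, -1, -1, -1, -3, 2, 2, 0, 0, 1, -1, 1, -3, 2, 0, 0, -2, -1, -1, -1, -3, 0, 4],
    [0, -2, 1, 1, -1, -3, -2, 2, 0, 0, 1, 3, -1, -1, 0, -2, 0, -2, -1, 3, 1, 3, 2, 6],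
    [2, 4, -1, -1, -1, -3, -2, -2, 2, -2, -1, 1, -1, -1, 0, 2, 0, 2, -1, -5, -1, 1, 0, 0],
    [-2, 0, 1, 1, -1, 1, 0, -4, 2, 2, 1, -1, -1, -1, 2, 4, 0, -2, 1, 1, -1, 1, 2, 2],
    [2, 4, 3, 7, 1, 3, 0, 0, 0, 0, 1, 3, -1, -1, 0, -2, 2, 4, 1, 1, -1, -3, 0, 0],
    [0, 2, 1, 1, 1, -1, 0, 0, 0, 0, 1, -1, 1, -3, -2, 4, 0, 2, -1, 3, -1, 1, 0, 0],
    [0, 2, 1, 1, -3, -5, 0, 0, -2, 2, -1, 1, -1, -1, 0, 2, 0, -2, -1, -1, -1, -3, 0, -4],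
    [0, -2, -1, -1, -1, 1, 0, 0, -2, -6, 1, -1, 1, 1, 0, -2, 2, 4, -1, -1, -1, 1, 2, -2],
    [2, 0, -1, -1, 1, -1, 0, -4, 0, 0, 1, 3, -1, -1, 0, -2, -2, -4, 1, 5, -1, 1, 0, -4],
    [-2, 0, -1, 3, 1, 3, 0, 0, 0, 0, 1, 3, -1, -1, 0, -2, -2, 0, -3, -3, -1, -3, 0, 0],
    [-2, -4, 1, 5, -1, -3, 0, 0, 0, -4, -1, 1, 1, -3, 0, -2, 0, -2, 1, 1, -1, 1, -2, -2]]

/-- The unit of order five. -/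
def uFive : Q8 := ⟨-1, 1, -2, 0, -1, -1, 0, 0⟩

/-- Coefficients of preimages of the generators of the rank 24 lattice. -/
def preT : List (List Int) :=
  [[532, -6051, -503, -5903, 1077, -539, -29775, -17641, 3, -2, -5, 2, 4, -2, 3, 1, -11, 3, 9, 0, 0, 185, 543, -5697, -1, 1, 1, -1, 0, 0, 0, 0],
    [185, -2051, -178, -1993, 364, -182, -10070, -5968, 0, 0, -1, 0, 2, -1, 1, 0, -4, 2, 3, 0, 0, 62, 183, -1928, -2, 1, 5, -3, -3, 1, -3, -1],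
    [0, 2, -2, 0, 12, -5, 0, 1, 5, -3, -12, 6, 9, -4, 8, 3, 0, 0, 0, 0, 0, 2, 0, 0, -3, 2, 7, -4, -5, 2, -5, -2],
    [-70, 810, 65, 787, -126, 64, 3973, 2356, 2, -1, -5, 2, 4, -2, 3, 1, 2, -1, -1, 0, 0, -22, -71, 761, -1, 0, 3, -2, -3, 1, -2, -1],
    [44, -482, -43, -472, 101, -50, -2375, -1406, 1, 0, -2, 1, 2, -1, 2, 1, -1, 0, 1, 0, 0, 17, 45, -454, -2, 1, 3, -2, -2, 1, -2, -1],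
    [-315, 3583, 296, 3487, -605, 304, 17602, 10433, 3, -2, -6, 3, 6, -3, 5, 2, 7, -3, -5, 0, 0, -104, -318, 3370, -2, 1, 2, -1, -2, 1, -2, -1],
    [-60, 723, 51, 708, -112, 57, 3561, 2110, 1, -1, -4, 2, 4, -2, 3, 1, 1, 0, -1, 0, 0, -20, -64, 681, 0, 0, 0, 0, 0, 0, 0, 0],
    [-275, 3120, 265, 3029, -522, 262, 15310, 9077, 1, 0, -4, 2, 5, -2, 2, 1, 6, -3, -4, 0, 0, -89, -275, 2933, -1, 0, 3, -2, -3, 1, -2, -1],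
    [-374, 4274, 350, 4165, -730, 367, 21012, 12452, 2, -1, -6, 3, 6, -3, 3, 1, 8, -3, -6, 0, 0, -126, -381, 4021, -1, 0, 2, -1, -2, 1, 0, 0],
    [43, -481, -42, -472, 101, -50, -2377, -1407, 0, 0, -1, 0, 2, -1, 0, 0, -1, 0, 1, 0, 0, 17, 45, -454, 0, 0, 0, 0, 0, 0, 0, 0],
    [-203, 2294, 194, 2228, -388, 195, 11258, 6674, 3, -2, -7, 4, 5, -2, 5, 2, 4, -2, -3, 0, 0, -66, -203, 2156, -2, 1, 5, -3, -3, 1, -3, -1],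
    [141, -1585, -137, -1540, 276, -138, -7784, -4614, 3, -2, -8, 4, 5, -2, 6, 2, -3, 2, 2, 0, 0, 47, 140, -1491, -3, 2, 6, -3, -3, 1, -3, -1],
    [228, -2588, -216, -2526, 466, -233, -12738, -7546, 3, -2, -4, 2, 2, -1, 3, 1, -5, 1, 4, 0, 0, 80, 233, -2437, -1, 1, 0, 0, 1, 0, 0, 0],
    [-316, 3583, 301, 3489, -623, 312, 17608, 10436, 0, 0, 4, -3, -3, 1, -5, -2, 7, -3, -5, 0, 0, -107, -319, 3371, 1, -1, -5, 3, 3, -1, 5, 2],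
    [318, -3569, -305, -3471, 625, -313, -17527, -10388, 0, 0, -1, 1, 2, -1, 3, 1, -7, 3, 5, 0, 0, 107, 318, -3356, -1, 1, 3, -2, -2, 1, -3, -1],
    [-226, 2602, 212, 2544, -464, 232, 12819, 7594, -3, 2, 7, -4, -3, 1, -5, -2, 5, -1, -4, 0, 0, -80, -234, 2452, 1, -1, -2, 1, 0, 0, 2, 1],
    [289, -3294, -272, -3216, 586, -293, -16214, -9606, 1, -1, -3, 2, 2, -1, 3, 1, -6, 1, 5, 0, 0, 101, 296, -3102, 0, 1, 1, -1, 0, 0, -3, -1],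
    [-255, 2877, 245, 2799, -503, 252, 14132, 8376, -2, 1, 5, -3, -3, 1, -5, -2, 6, -3, -4, 0, 0, -86, -256, 2706, 2, -1, -4, 2, 2, -1, 2, 1],
    [471, -5343, -445, -5212, 948, -474, -26287, -15575, 3, -2, -9, 5, 5, -2, 8, 3, -10, 3, 8, 0, 0, 163, 479, -5030, -3, 2, 9, -5, -5, 2, -8, -3],
    [-73, 828, 72, 803, -141, 71, 4059, 2407, 0, 0, -1, 0, 0, 0, 0, 0, 2, -1, -1, 0, 0, -24, -73, 778, -1, 0, 4, -2, -3, 1, -3, -1],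
    [72, -795, -73, -771, 144, -72, -3898, -2311, 0, 0, -1, 1, 0, 0, 2, 1, -2, 1, 1, 0, 0, 24, 71, -747, -1, 1, 0, 0, 1, 0, 0, 0],
    [-472, 5376, 444, 5244, -945, 473, 26448, 15671, -3, 2, 7, -4, -5, 2, -6, -2, 10, -3, -8, 0, 0, -163, -481, 5061, 1, -1, -5, 3, 3, -1, 5, 2],
    [427, -4879, -402, -4759, 852, -427, -24001, -14222, 1, -1, -4, 3, 3, -1, 5, 2, -9, 3, 7, 0, 0, 147, 436, -4593, -1, 1, 1, -1, 0, 0, -2, -1],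
    [-117, 1292, 115, 1256, -237, 118, 6345, 3760, -2, 1, 4, -2, -2, 1, -3, -1, 3, -1, -2, 0, 0, -40, -116, 1215, 1, -1, -4, 2, 2, -1, 3, 1],
    [116, -1292, -114, -1257, 235, -117, -6346, -3761, 1, -1, -3, 2, 2, -1, 5, 2, -3, 1, 2, 0, 0, 40, 116, -1215, 1, 0, -2, 1, 1, 0, 0, 0],
    [-428, 4879, 403, 4758, -854, 428, 24000, 14221, -2, 1, 5, -3, -3, 1, -3, -1, 9, -3, -7, 0, 0, -147, -436, 4593, 3, -2, -7, 4, 3, -1, 5, 2],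
    [115, -1291, -109, -1259, 232, -116, -6349, -3762, 0, 0, -3, 2, 3, -1, 3, 1, -3, 1, 2, 0, 0, 40, 116, -1215, -1, 1, 4, -2, -4, 2, -3, -1],
    [-429, 4880, 408, 4756, -857, 429, 23997, 14220, -3, 2, 5, -3, -2, 1, -5, -2, 9, -3, -7, 0, 0, -147, -436, 4593, 1, -1, -1, 1, -2, 1, 2, 1],
    [47, -538, -42, -532, 109, -54, -2666, -1577, 2, -1, -7, 4, 5, -2, 6, 2, -1, -1, 1, 0, 0, 19, 50, -509, 2, -1, -4, 2, 3, -1, 2, 1],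
    [-497, 5633, 475, 5483, -980, 491, 27680, 16405, -1, 1, 1, -1, 0, 0, -2, -1, 11, -5, -8, 0, 0, -168, -502, 5299, 4, -3, -9, 5, 5, -2, 7, 3],
    [227, -2619, -213, -2560, 464, -232, -12900, -7643, 1, -1, -5, 3, 3, -1, 5, 2, -5, 1, 4, 0, 0, 80, 235, -2468, 1, 0, 1, -1, 0, 0, -2, -1],
    [-317, 3552, 304, 3455, -625, 313, 17446, 10339, -2, 1, 3, -2, -2, 1, -3, -1, 7, -3, -5, 0, 0, -107, -317, 3340, 3, -2, -4, 2, 2, -1, 3, 1],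
    [113, -1290, -107, -1260, 230, -115, -6350, -3762, 3, -2, -6, 4, 3, -1, 5, 2, -3, 1, 2, 0, 0, 40, 116, -1215, -1, 1, 3, -2, -2, 1, -3, -1],
    [-431, 4881, 410, 4755, -859, 430, 23996, 14220, 0, 0, 2, -1, -2, 1, -3, -1, 9, -3, -7, 0, 0, -147, -436, 4593, 1, -1, -2, 1, 0, 0, 2, 1],
    [753, -8587, -711, -8366, 1484, -744, -42215, -25018, 2, -1, -5, 3, 3, -1, 5, 2, -16, 6, 12, 0, 0, 255, 764, -8081, -1, 1, 4, -2, -1, 0, -3, -1],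
    [209, -2416, -194, -2351, 395, -199, -11869, -7036, -1, 1, 3, -2, -2, 1, -3, -1, -4, 2, 3, 0, 0, 68, 212, -2273, 1, -1, -1, 1, 1, -1, 2, 1],
    [288, -3310, -267, -3235, 583, -292, -16299, -9656, 2, -1, -5, 3, 3, -1, 5, 2, -6, 1, 5, 0, 0, 101, 297, -3118, 0, 0, 2, -2, -1, 0, -2, -1],
    [-256, 2861, 250, 2780, -506, 253, 14047, 8326, -1, 1, 3, -2, -2, 1, -3, -1, 6, -3, -4, 0, 0, -86, -255, 2690, 2, -2, -3, 1, 1, -1, 3, 1],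
    [-57, 689, 48, 677, -112, 57, 3402, 2015, 3, -2, -6, 3, 4, -2, 6, 2, 1, 0, -1, 0, 0, -20, -62, 650, -3, 2, 6, -3, -4, 2, -5, -2],
    [-601, 6860, 565, 6692, -1201, 602, 33748, 19997, 0, 0, 2, -2, -1, 0, -2, -1, 13, -4, -10, 0, 0, -207, -614, 6458, -1, 0, 1, 0, -2, 1, 0, 0],
    [228, -2572, -216, -2510, 466, -233, -12657, -7498, 1, -1, -2, 1, 2, -1, 3, 1, -5, 1, 4, 0, 0, 80, 232, -2421, -1, 1, 2, -1, 0, 0, -3, -1],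
    [-316, 3599, 301, 3505, -623, 312, 17689, 10484, -2, 1, 6, -4, -3, 1, -5, -2, 7, -3, -5, 0, 0, -107, -320, 3387, 1, -1, -3, 2, 2, -1, 2, 1],
    [-63, 725, 60, 703, -119, 60, 3555, 2108, 3, -2, -10, 6, 6, -2, 8, 3, 1, 0, -1, 0, 0, -20, -64, 681, -3, 2, 7, -4, -3, 1, -5, -2],
    [-607, 6896, 577, 6718, -1208, 605, 33901, 20090, 0, 0, -2, 1, 1, 0, 0, 0, 13, -4, -10, 0, 0, -207, -616, 6489, -1, 0, 2, -1, -1, 0, 0, 0],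
    [788, -8944, -749, -8714, 1568, -785, -43974, -26059, 1, -1, -3, 2, 2, -1, 3, 1, -17, 6, 13, 0, 0, 269, 799, -8417, -2, 2, 5, -3, -2, 1, -3, -1],
    [244, -2773, -232, -2699, 479, -240, -13628, -8077, -2, 1, 5, -3, -3, 1, -5, -2, -5, 2, 4, 0, 0, 82, 247, -2609, 0, 0, 0, 0, 0, 0, 2, 1],
    [103, -1172, -95, -1151, 224, -112, -5786, -3425, 2, -1, -5, 3, 3, -1, 5, 2, -2, 0, 2, 0, 0, 39, 108, -1105, -1, 1, 1, -1, 0, 0, -2, -1],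
    [-441, 4999, 422, 4864, -865, 433, 24560, 14557, -1, 1, 3, -2, -2, 1, -3, -1, 10, -4, -7, 0, 0, -148, -444, 4703, 1, -1, -4, 2, 2, -1, 3, 1],
    [429, -4879, -410, -4755, 864, -432, -23995, -14219, 3, -2, -7, 4, 6, -3, 5, 2, -9, 3, 7, 0, 0, 148, 436, -4593, -1, 1, 3, -2, -2, 1, -2, -1],
    [-115, 1292, 107, 1260, -225, 113, 6351, 3763, 0, 0, 1, -1, 1, -1, -3, -1, 3, -1, -2, 0, 0, -39, -116, 1215, 1, -1, -2, 1, 0, 0, 3, 1],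
    [412, -4655, -391, -4536, 823, -412, -22885, -13561, -1, 1, 1, 0, 0, 0, 0, 0, -9, 3, 7, 0, 0, 141, 417, -4380, 0, 0, 1, -1, 0, 0, -2, -1],
    [-132, 1516, 126, 1479, -266, 133, 7461, 4421, -4, 3, 9, -5, -5, 2, -8, -3, 3, -1, -2, 0, 0, -46, -135, 1428, 2, -2, -4, 2, 2, -1, 3, 1],
    [114, -1290, -110, -1259, 239, -119, -6348, -3761, 4, -2, -9, 5, 7, -3, 7, 3, -3, 1, 2, 0, 0, 41, 116, -1215, -3, 2, 6, -3, -4, 2, -5, -2],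
    [-430, 4881, 407, 4756, -850, 426, 23998, 14221, 1, 0, -1, 0, 2, -1, -1, 0, 9, -3, -7, 0, 0, -146, -436, 4593, -1, 0, 1, 0, -2, 1, 0, 0],
    [-242, 2756, 226, 2686, -476, 239, 13551, 8030, 1, -1, -3, 2, 2, -1, 3, 1, 5, -2, -4, 0, 0, -82, -246, 2593, 0, 0, 0, 0, 0, 0, 0, 0],
    [-786, 8927, 743, 8701, -1565, 784, 43897, 26012, -2, 1, 5, -3, -3, 1, -5, -2, 17, -6, -13, 0, 0, -269, -798, 8401, 2, -2, -5, 3, 2, -1, 5, 2],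
    [632, -7150, -604, -6960, 1250, -626, -35139, -20825, 3, -2, -8, 4, 5, -2, 6, 2, -14, 6, 10, 0, 0, 214, 637, -6727, -2, 2, 4, -2, -2, 1, -3, -1],
    [88, -979, -87, -945, 161, -81, -4793, -2843, 0, 0, 0, -1, 0, 0, -2, -1, -2, 2, 1, 0, 0, 27, 85, -919, 0, 0, -1, 1, 0, 0, 2, 1],
    [-316, 3584, 301, 3488, -618, 310, 17608, 10436, 0, 0, -1, 0, 2, -1, 0, 0, 7, -3, -5, 0, 0, -106, -319, 3371, 1, -1, -2, 1, 0, 0, 2, 1]]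

/-- The vectors with prescribed products with the first orbit. -/
def candT : List (List Int) :=
  [[2, 0, 2, 0, 0, 0, 0, 0, 0, 0, 0, 0, 0, 2, 2, -2, -2, 2, 0, 0, 2, 0, 0, 0],
    [2, -2, 2, 2, 0, 0, 0, 0, 0, 0, 0, 0, 0, 2, 0, 0, 0, 0, -2, 0, 2, 2, 0, 0],
    [2, -2, 2, 2, 0, 2, 0, 0, 0, 0, 0, 0, 0, 0, 2, 0, 0, 2, 0, 0, 0, 0, 0, -2],
    [2, 0, 2, 2, 2, 2, 0, 0, 0, 0, 0, 0, 0, 0, 0, -2, 0, 0, 0, 0, 2, 0, -2, 0],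
    [2, -2, 2, 0, 0, 0, 0, -2, 0, 0, 0, 0, 0, 0, 2, -2, 0, 0, 2, 0, 0, 0, -2, 0],
    [2, -2, 2, 0, 0, 0, 0, 2, 0, 0, 0, 0, 0, 0, 2, -2, 0, 0, -2, 0, 0, 0, -2, 0],
    [2, -2, 2, 2, 0, 0, 0, 0, -2, 0, 0, 0, 0, 0, 0, -2, 2, 0, 0, -2, 0, 0, 0, 0],
    [2, -2, 2, 0, -2, 0, -2, 0, -2, 0, 0, 0, 0, 0, 2, 0, 0, 0, 0, 0, 2, 0, 0, 0],
    [2, 0, 2, 0, 0, 0, 0, 0, 0, -2, 0, 0, 0, 2, 0, -2, 0, 0, 0, -2, 0, 2, -2, 0],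
    [2, 0, 2, 2, 0, 0, -2, 0, 0, 0, 2, 0, 0, 0, 2, -2, 0, 0, 0, 0, 0, 2, 0, 0],
    [2, -2, 2, 0, 0, 0, 0, 0, 0, -2, 2, 0, 0, 0, 0, -2, 0, 0, 0, 0, 2, 0, 0, -2],
    [2, -2, 2, 2, 0, 0, -2, 0, 0, -2, 0, 2, 0, 0, 0, 0, 0, 0, 0, 0, 0, 0, -2, 0],
    [2, -2, 2, 0, 0, -2, -2, 0, 0, 0, 0, 0, 2, 2, 0, -2, 0, 0, 0, 0, 0, 0, 0, 0],
    [2, -2, 2, 0, 0, 2, -2, 0, 0, 0, 0, 0, -2, 2, 0, -2, 0, 0, 0, 0, 0, 0, 0, 0],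
    [2, 0, 2, 2, 0, 0, 0, 0, -2, 0, 0, 0, 2, 2, 2, 0, 0, 0, 0, 0, 0, 0, -2, 0],
    [3, -1, 1, 1, -1, 1, -1, 1, 1, 1, -1, 1, 1, 1, 1, -1, 1, 1, 1, -1, 1, 1, -1, 1],
    [1, -1, 3, 1, -1, 1, -1, -1, 1, -1, 1, -1, 1, 1, 1, -1, 1, 1, -1, -1, 1, -1, -1, 1],
    [3, -1, 1, 1, 1, 1, -1, -1, -1, -1, -1, 1, 1, 1, 1, -1, -1, -1, 1, -1, 1, 1, 1, -1],
    [3, -1, 1, 1, 1, -1, -1, 1, -1, -1, -1, -1, -1, 1, 1, -1, 1, 1, 1, 1, 1, 1, -1, -1],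
    [1, -1, 3, 1, -1, 1, -1, 1, 1, -1, -1, -1, 1, 1, 1, -1, -1, -1, 1, 1, 1, 1, -1, -1],
    [1, -1, 3, 1, -1, 1, -1, -1, -1, 1, 1, 1, 1, 1, -1, -1, -1, 1, 1, -1, 1, 1, -1, -1],
    [3, -1, 1, -1, 1, 1, -1, -1, -1, 1, 1, -1, 1, 1, 1, -1, 1, 1, -1, -1, 1, 1, -1, -1],
    [1, -1, 3, 1, 1, -1, -1, -1, -1, -1, -1, -1, 1, -1, 1, -1, -1, 1, -1, -1, 1, 1, -1, -1],
    [1, -1, 3, -1, 1, 1, -1, 1, -1, -1, -1, 1, 1, 1, 1, -1, 1, 1, 1, -1, 1, -1, -1, -1],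
    [3, -1, 1, 1, -1, 1, -1, 1, -1, -1, -1, -1, 1, 1, -1, -1, -1, 1, -1, -1, 1, -1, -1, -1]]

/-- The orbits of the chosen vectors. -/
def orbT : List (List (List Int)) :=
  [[[4, 0, 4, 0, 0, 0, 0, 0, 0, 0, 0, 0, 0, 0, 0, 0, 0, 0, 0, 0, 0, 0, 0, 0],
    [-1, -1, -1, -1, 1, 1, 1, 1, -1, -1, 1, -1, 1, -1, -1, 1, -1, 1, 1, 1, -1, 1, 1, 3],
    [-1, -1, -1, 1, -1, 1, -1, -1, -1, -1, -1, 1, 1, 1, 1, -3, 1, 1, -1, 1, 1, 1, -1, -1],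
    [-1, -1, -1, 1, 1, -1, -1, 1, 1, 1, 1, -1, -1, 1, 1, 1, -1, -1, 1, -3, 1, -1, -1, -1]],
   [[2, 0, 2, 0, 0, 0, 0, 0, 0, 0, 0, 0, 0, 2, 2, -2, -2, 2, 0, 0, 2, 0, 0, 0],
    [-2, -2, -2, 0, 0, 0, 0, 2, 0, 0, 0, 0, 0, 0, -2, 2, 0, 0, 2, 0, 0, 0, 2, 0],
    [-1, 1, 1, 1, -1, -1, -1, -1, 1, -1, -1, 1, 1, 1, 1, -1, 1, -1, -3, 1, -1, 1, -1, -1],
    [2, 0, 0, 0, 2, 0, 0, 0, 0, 0, 2, -2, -2, 0, 0, 0, 0, -2, 2, -2, 0, 0, 0, 0]],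
   [[2, 0, 2, 0, 0, 0, 0, 0, 0, -2, 0, 0, 0, 2, 0, -2, 0, 0, 0, -2, 0, 2, -2, 0],
    [-2, 0, -2, 0, 2, 0, 0, 0, -2, 0, 2, 0, 0, -2, 0, 2, 0, 0, 2, 0, 0, 0, 0, 0],
    [1, 1, -1, 1, -1, 1, 1, -1, 1, 1, -1, 1, 1, 1, 1, -1, 1, 1, -3, 1, 1, -1, -1, -1],
    [1, -1, 1, -1, 1, -1, -1, 1, 1, 1, -1, -1, -1, 1, 1, 1, -1, -1, 3, -1, 1, -1, 1, 1]],
   [[2, -2, 2, 2, 0, 0, 0, 0, 0, 0, 0, 0, 0, 2, 0, 0, 0, 0, -2, 0, 2, 2, 0, 0],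
    [-2, 0, -2, 0, 2, 0, 0, 2, 0, 0, 0, 0, 0, 0, 0, 0, 0, -2, 2, 0, -2, 0, 0, 2],
    [0, 0, 0, 0, -2, 0, 0, -2, 0, 0, 0, 0, 0, -2, 2, -2, 2, 0, -2, 0, 0, 0, 0, -2],
    [1, 1, 1, -1, 1, 1, -1, 1, 1, 1, 1, -1, -1, 1, -1, 1, -1, 1, 1, -3, 1, -1, -1, 1]],
   [[2, -2, 2, 2, 0, 2, 0, 0, 0, 0, 0, 0, 0, 0, 2, 0, 0, 2, 0, 0, 0, 0, 0, -2],
    [-2, 0, -2, -2, 0, 0, 0, 2, 0, 0, 0, -2, 0, 2, 0, 2, 0, 0, 0, 0, 0, 0, 0, 2],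
    [0, 0, 0, 0, -2, 0, -2, -2, 0, 0, 0, 2, 0, 0, 0, -2, 0, -2, 0, 2, 0, 0, 0, -2],
    [1, -1, 1, 1, 1, -1, 1, 1, 1, -1, 1, -1, -1, -1, -1, 1, -1, -1, -1, -3, 1, -1, -1, 1]],
   [[2, -2, 2, 0, 0, 0, 0, -2, 0, 0, 0, 0, 0, 0, 2, -2, 0, 0, 2, 0, 0, 0, -2, 0],
    [-3, -1, -1, -1, 1, 1, 1, 1, -1, 1, 1, -1, -1, -1, -1, 1, -1, 1, -1, -1, 1, -1, 1, 1],
    [0, 2, 0, 0, -2, 0, 0, 0, 0, 0, -2, 2, 2, 2, 0, -2, 0, 0, 0, 0, 0, 0, 0, -2],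
    [1, -1, 1, 1, 1, -1, -1, 1, 1, -1, 1, -1, -1, -1, 1, 3, -1, -1, 1, -1, 1, 1, 1, -1]]]

/-- Preimages of the chosen vectors. -/
def seedT : List (Q8 × Q8 × Q8) :=
  [(⟨1, -1, 3, -1, 0, 0, -2, 0⟩, ⟨2, 0, 2, -2, -1, -1, 1, -1⟩, ⟨0, 0, -2, 0, 1, -1, -1, -1⟩),
   (⟨3, -1, 2, 0, 0, 0, -1, 1⟩, ⟨-2, 0, 3, -1, 1, -1, 2, -2⟩, ⟨2, 0, -3, 1, 1, -1, 0, 0⟩),
   (⟨3, -1, 1, -1, 2, 0, 0, 0⟩, ⟨0, 0, 4, -2, 1, -1, 3, -1⟩, ⟨1, -1, 1, 1, 0, 0, -2, 0⟩),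
   (⟨3, -1, 1, -1, -2, 0, 0, 0⟩, ⟨1, -1, 3, -1, 0, 0, 4, -2⟩, ⟨-2, 0, 0, 0, -1, -1, 1, -1⟩),
   (⟨2, 0, 5, -1, 0, 0, -3, 1⟩, ⟨0, 0, 3, -1, -2, 0, 1, -1⟩, ⟨-3, 1, 0, 0, 1, -1, 2, 0⟩),
   (⟨1, -1, 5, -1, 1, -1, -1, 1⟩, ⟨0, 0, 2, -2, 0, 0, 0, 0⟩, ⟨0, 0, -2, 2, 0, 0, 0, 0⟩)]

/-- An inverse of the chosen basis, up to a factor. -/
def invT : List (List Int) :=
  [[2, 2, 0, 3, -1, -1, -2, -1, 3, 0, 2, 2, -1, -1, 0, -2, 0, -1, 1, -1, -3, -1, -2, -1],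
    [-2, -2, 0, -3, 1, -1, 0, 1, -3, 0, -2, -2, 1, 1, 0, 2, 0, 1, -1, 1, 1, -1, 2, 1],
    [0, -2, 0, -3, 1, 1, 2, 1, -3, 0, -2, -2, 1, 1, 0, 2, 0, 1, -1, 1, 3, 1, 2, 1],
    [-4, -2, 0, -3, 1, -1, 0, 1, -5, 0, -4, -2, 3, 1, 0, 2, 2, 1, -1, 3, 1, -3, 2, -1],
    [4, 2, 2, 3, -1, 1, 2, 1, 3, 0, 4, 2, -3, -1, -2, -2, -2, -3, -1, -3, -1, 3, -2, 1],
    [-2, 0, 0, -3, -1, -1, 0, 1, -1, 0, 0, 0, 1, 1, 0, 2, 2, 1, 1, 1, 1, 1, 2, 1],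
    [-2, -2, -2, -3, 1, 1, 0, 1, -1, 0, 0, -2, 1, 1, 0, 0, 0, 1, -1, 1, 3, 1, 2, 1],
    [4, -2, 2, 1, 1, 1, -2, -1, -1, -2, 0, -4, -1, 3, 0, 0, -2, 1, -1, -1, 1, 1, 0, 3],
    [0, 0, 0, -1, 1, 3, 2, 1, -1, -2, 2, -2, -1, 1, 0, 2, -2, -1, -1, -1, 3, 1, 0, 3],
    [2, 0, 0, 3, -1, -1, -2, -1, -1, -2, 0, -2, 1, 1, 0, 0, -2, -1, -1, -3, 1, 1, 0, 1],
    [0, 0, -2, -1, 3, 3, 2, 1, -1, 2, 0, -2, 1, 1, 2, 2, 0, 1, 1, 1, 1, -1, 0, -1],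
    [-2, 0, -4, -1, 1, 1, 0, -3, 5, 4, 2, 4, 1, 1, 2, 0, 2, -1, 3, 1, -3, -1, -2, -3],
    [4, 4, 2, 3, -1, 1, 2, 1, -1, 0, 2, 0, -1, -1, 0, 0, -2, -1, -1, -1, 1, 1, 2, 1],
    [-2, 0, -2, -1, 1, 1, 2, 1, 1, 2, 0, 2, 1, -1, 0, 0, 2, 1, 1, 1, -1, -1, 0, -3],
    [-2, 0, -2, -1, 1, -1, 0, -1, 1, 2, 0, 2, 1, 1, 2, 0, 2, 1, 1, 1, -1, -1, 0, -1],
    [-2, 0, -2, -1, -1, -1, 0, -1, 1, 2, 0, 2, 1, -1, 0, 0, 2, 1, 1, 1, -1, -1, 0, -1],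
    [0, -2, 0, -3, 1, 3, 2, 1, -1, 2, 0, 0, 1, 1, 2, 2, 0, 1, -1, 1, 1, -1, 0, -1],
    [0, 0, 0, 1, 1, 1, 0, -1, 1, 0, 0, 0, -1, -1, 0, 0, 0, -1, -1, -1, -1, -1, -2, -1],
    [-2, -2, 0, -3, 1, 1, 0, 1, -3, 0, -2, -2, 1, 1, 0, 2, 0, 1, -1, 1, 3, -1, 2, 1],
    [2, -2, 2, -1, 1, 1, 0, 1, -3, -2, 0, -4, -1, 1, -2, 0, -2, 1, -1, -1, 3, 1, 0, 3],
    [0, -2, 2, -3, 1, 1, 0, 1, -3, 0, 0, -2, 1, 1, 0, 2, -2, 1, -1, 1, 3, 1, 2, 3],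
    [0, 0, 0, 1, -1, -1, -2, -1, 1, -2, 0, -2, 1, 1, 0, 0, -2, -1, -1, -3, 1, 1, 0, 3],
    [-2, 2, -2, -1, 1, 1, 2, 1, 1, 2, 0, 4, 1, -1, 2, 0, 2, -1, 1, 1, -3, -1, 0, -3],
    [-4, 0, -2, -3, 1, -1, 0, -1, -1, 2, -2, 2, 3, 1, 2, 2, 2, 1, 1, 3, -1, -3, 0, -3]]

/-- The factor. -/
def invD : Int := 8

end Cfsg.Agent.Spor.CoJ2

end
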