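import Cfsg.Agent.Lib.Spor.CoJ2.Data
import Cfsg.Agent.Lib.Spor.J2.Lattice
import Cfsg.Agent.Lib.Spor.Leech.Lattice
import Cfsg.Agent.Lib.Spor.Leech.Enum

/-!
The icosian Leech lattice with the norm obtained from `a + b√5 ↦ a + b` is isometric to the rank 24 lattice.
-/

set_option autoImplicit false
set_option maxRecDepth 100000

noncomputable section

namespace Cfsg.Agent.Spor.CoJ2

open Quaternion Cfsg Cfsg.Spor Cfsg.Agent.J2Cert Cfsg.Agent.Spor.Leech

/-- Sum of two triples. -/
def tadd (s t : T3) : T3 := ⟨qadd s.x t.x, qadd s.y t.y, qadd s.z t.z⟩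

/-- Integer multiple of a triple. -/
def tsmul (n : ℤ) (t : T3) : T3 := ⟨qsmul n t.x, qsmul n t.y, qsmul n t.z⟩

/-- Left product of a triple. -/
def lsT (b : Q8) (t : T3) : T3 := ⟨qmul b t.x, qmul b t.y, qmul b t.z⟩

/-- All three products are exact. -/
def lsOK (b : Q8) (t : T3) : Bool := mulOK b t.x && mulOK b t.y && mulOK b t.z

theorem vec_tadd (s t : T3) : vec (tadd s t) = vec s + vec t := by
  funext i; fin_cases i <;> simp [vec, tadd, emb_add]

theorem vec_tsmul (n : ℤ) (t : T3) : vec (tsmul n t) = lsmul (n : ℍ[ℝ]) (vec t) := by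
  funext i; fin_cases i <;> simp [vec, tsmul, lsmul, emb_smul, Int.cast_smul_eq_zsmul, zsmul_eq_mul]

theorem vec_lsT {b : Q8} {t : T3} (h : lsOK b t = true) : vec (lsT b t) = lsmul (emb b) (vec t) := by
  simp only [lsOK, Bool.and_eq_true] at h
  funext i; fin_cases i <;> simp [vec, lsT, lsmul, emb_mul h.1.1, emb_mul h.1.2, emb_mul h.2]

/-- The coordinates of a triple. -/
def flatT (t : T3) : List ℤ :=
  [t.x.a, t.x.b, t.x.c, t.x.d, t.x.e, t.x.f, t.x.g, t.x.h, t.y.a, t.y.b, t.y.c, t.y.d, t.y.e, t.y.f, t.y.g, t.y.h,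
    t.z.a, t.z.b, t.z.c, t.z.d, t.z.e, t.z.f, t.z.g, t.z.h]

/-- Product of a row and a column. -/
def rowDot : List ℤ → List ℤ → ℤ
  | m :: ms, f :: fs => m * f + rowDot ms fs
  | _, _ => 0

/-- Eight times the image of a triple. -/
def img (t : T3) : Vec := fun p => rowDot (matT.getD (Golay.idx p) []) (flatT t)

theorem rowDot_add : ∀ m f g : List ℤ, f.length = g.length →
    rowDot m (List.zipWith (· + ·) f g) = rowDot m f + rowDot m g
  | [], f, g, _ => by simp [rowDot]
  | _ :: _, [], [], _ => by simp [rowDot]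
  | _ :: _, [], _ :: _, h => by simp at h
  | _ :: _, _ :: _, [], h => by simp at h
  | m :: ms, a :: f, b :: g, h => by
    simp only [List.zipWith_cons_cons, rowDot, rowDot_add ms f g (by simpa using h)]
    ring

theorem rowDot_smul (n : ℤ) : ∀ m f : List ℤ, rowDot m (f.map (n * ·)) = n * rowDot m f
  | [], f => by simp [rowDot]
  | _ :: _, [] => by simp [rowDot]
  | m :: ms, a :: f => by simp only [List.map_cons, rowDot, rowDot_smul n ms f]; ring

theorem img_tadd (s t : T3) : img (tadd s t) = img s + img t := funext fun p => by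
  show rowDot _ (flatT (tadd s t)) = rowDot _ _ + rowDot _ _
  rw [← rowDot_add _ _ _ (by rfl)]
  rfl

theorem img_tsmul (n : ℤ) (t : T3) : img (tsmul n t) = n • img t := funext fun p => by
  show rowDot _ (flatT (tsmul n t)) = n • rowDot _ _
  rw [zsmul_eq_mul, Int.cast_id, ← rowDot_smul]
  rfl

/-- The components of the norm of a triple. -/
def tnorm (t : T3) : ℤ := (qipRaw t t).a + (qipRaw t t).b

theorem norm_img (t : T3) : sqNorm (img t) = 32 * tnorm t := by
  have h : sqNorm (img t) =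
      ((List.range 24).map fun i => rowDot (matT.getD i []) (flatT t) ^ 2).sum := by
    rw [sum_range_idx]; rfl
  rw [h, show (List.range 24) = [0, 1, 2, 3, 4, 5, 6, 7, 8, 9, 10, 11, 12, 13, 14, 15, 16, 17, 18, 19, 20, 21, 22, 23]
    from rfl]
  simp only [List.map_cons, List.map_nil, List.sum_cons, List.sum_nil, matT, List.getD_cons_zero,
    List.getD_cons_succ, flatT, rowDot, tnorm, qipRaw, qadd, qraw, qstar]
  ring

theorem tnorm_eq (t : T3) : tnorm t =
    (t.x.a + t.x.b) ^ 2 + 4 * t.x.b ^ 2 + ((t.x.c + t.x.d) ^ 2 + 4 * t.x.d ^ 2) +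
    ((t.x.e + t.x.f) ^ 2 + 4 * t.x.f ^ 2) + ((t.x.g + t.x.h) ^ 2 + 4 * t.x.h ^ 2) +
    ((t.y.a + t.y.b) ^ 2 + 4 * t.y.b ^ 2) + ((t.y.c + t.y.d) ^ 2 + 4 * t.y.d ^ 2) +
    ((t.y.e + t.y.f) ^ 2 + 4 * t.y.f ^ 2) + ((t.y.g + t.y.h) ^ 2 + 4 * t.y.h ^ 2) +
    ((t.z.a + t.z.b) ^ 2 + 4 * t.z.b ^ 2) + ((t.z.c + t.z.d) ^ 2 + 4 * t.z.d ^ 2) +
    ((t.z.e + t.z.f) ^ 2 + 4 * t.z.f ^ 2) + ((t.z.g + t.z.h) ^ 2 + 4 * t.z.h ^ 2) := by
  simp only [tnorm, qipRaw, qadd, qraw, qstar]
  ring

/-- The zero triple. -/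
def tzero : T3 := ⟨qzero, qzero, qzero⟩

theorem img_eq_zero {t : T3} (h : img t = 0) : t = tzero := by
  have h2 : tnorm t = 0 := by
    have := norm_img t
    rw [h, show sqNorm (0 : Vec) = 0 by simp [sqNorm]] at this
    omega
  rw [tnorm_eq] at h2
  obtain ⟨⟨a, b, c, d, e, f, g, i⟩, ⟨a', b', c', d', e', f', g', i'⟩, ⟨a'', b'', c'', d'', e'', f'', g'', i''⟩⟩ := t
  simp only at h2
  have key : ∀ p q : ℤ, (p + q) ^ 2 + 4 * q ^ 2 = 0 → p = 0 ∧ q = 0 := fun p q hpq => by
    have hq : q = 0 := by nlinarith [sq_nonneg (p + q), sq_nonneg q]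
    subst hq
    exact ⟨by nlinarith [sq_nonneg p], rfl⟩
  have nn : ∀ p q : ℤ, 0 ≤ (p + q) ^ 2 + 4 * q ^ 2 := fun p q => by positivity
  have := nn a b; have := nn c d; have := nn e f; have := nn g i
  have := nn a' b'; have := nn c' d'; have := nn e' f'; have := nn g' i'
  have := nn a'' b''; have := nn c'' d''; have := nn e'' f''; have := nn g'' i''
  obtain ⟨rfl, rfl⟩ := key a b (by linarith); obtain ⟨rfl, rfl⟩ := key c d (by linarith)
  obtain ⟨rfl, rfl⟩ := key e f (by linarith); obtain ⟨rfl, rfl⟩ := key g i (by linarith)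
  obtain ⟨rfl, rfl⟩ := key a' b' (by linarith); obtain ⟨rfl, rfl⟩ := key c' d' (by linarith)
  obtain ⟨rfl, rfl⟩ := key e' f' (by linarith); obtain ⟨rfl, rfl⟩ := key g' i' (by linarith)
  obtain ⟨rfl, rfl⟩ := key a'' b'' (by linarith); obtain ⟨rfl, rfl⟩ := key c'' d'' (by linarith)
  obtain ⟨rfl, rfl⟩ := key e'' f'' (by linarith); obtain ⟨rfl, rfl⟩ := key g'' i'' (by linarith)
  rfl

theorem img_inj {s t : T3} (h : img s = img t) : s = t := by
  have h0 : img (tadd s (tsmul (-1) t)) = 0 := by rw [img_tadd, img_tsmul, h]; simp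
  have e := congrArg vec (img_eq_zero h0)
  rw [vec_tadd, vec_tsmul] at e
  refine vec_inj (funext fun i => ?_)
  have ei := congrFun e i
  simp only [Pi.add_apply, lsmul, Int.cast_neg, Int.cast_one, neg_mul, one_mul] at ei
  have hz : vec tzero i = 0 := by fin_cases i <;> simp [vec, tzero, emb_zero]
  rw [hz] at ei
  exact add_neg_eq_zero.1 ei

/-- Vectors of the icosian space with an image in the rank 24 lattice. -/
def mapped : AddSubgroup (Fin 3 → ℍ[ℝ]) where
  carrier := {v | ∃ t y, v = vec t ∧ y ∈ leechLattice ∧ img t = (8 : ℤ) • y}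
  zero_mem' := ⟨tzero, 0, by funext i; fin_cases i <;> simp [vec, tzero, emb_zero], zero_mem _, by
    rw [smul_zero]; funext p; simp [img, tzero, flatT, qzero]; exact by
      have : ∀ m : List ℤ, rowDot m (List.replicate 24 0) = 0 := fun m => by
        rw [show List.replicate 24 (0 : ℤ) = (List.replicate 24 (0 : ℤ)).map ((0 : ℤ) * ·) by simp, rowDot_smul, zero_mul]
      exact this _⟩
  add_mem' := by
    rintro u v ⟨s, y, rfl, hy, es⟩ ⟨t, z, rfl, hz, et⟩
    exact ⟨tadd s t, y + z, (vec_tadd s t).symm, add_mem hy hz, by rw [img_tadd, es, et, smul_add]⟩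
  neg_mem' := by
    rintro u ⟨s, y, rfl, hy, es⟩
    exact ⟨tsmul (-1) s, -y, by rw [vec_tsmul]; funext i; simp [lsmul], neg_mem hy, by
      rw [img_tsmul, es, smul_neg, neg_one_zsmul]⟩

/-- The image of a triple is eight times a lattice vector. -/
def chkImg (t : T3) : Bool :=
  ((List.range 24).all fun i => decide (rowDot (matT.getD i []) (flatT t) % 8 = 0)) &&
    inL (ofList ((List.range 24).map fun i => rowDot (matT.getD i []) (flatT t) / 8))

theorem mapped_of_chk {t : T3} (h : chkImg t = true) : vec t ∈ mapped := by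
  simp only [chkImg, Bool.and_eq_true, List.all_eq_true, List.mem_range, decide_eq_true_eq] at h
  refine ⟨t, _, rfl, mem_of_inL h.2, funext fun p => ?_⟩
  have := h.1 _ (Golay.idx_lt p)
  simp only [Pi.smul_apply, ofList, img, smul_eq_mul]
  simp only [List.getD_eq_getElem?_getD, List.getElem?_map, List.getElem?_range (Golay.idx_lt p), Option.map_some,
    Option.getD_some] at this ⊢
  omega

/-- The products of the basis with the four generators. -/
theorem gens_mapped_chk : (wgen.all fun w => bas.all fun b => lsOK b w && chkImg (lsT b w)) = true := by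
  decide +kernel

theorem gen_mapped {w : T3} (hw : w ∈ wgen) {a : ℍ[ℝ]} (ha : a ∈ icosians) : lsmul a (vec w) ∈ mapped := by
  obtain ⟨ns, -, rfl⟩ := mem_icosians.1 ha
  have key : ∀ (ms : List ℤ) (xs : List Q8), (∀ x ∈ xs, lsmul (emb x) (vec w) ∈ mapped) →
      lsmul (emb (lin ms xs)) (vec w) ∈ mapped := by
    intro ms
    induction ms with
    | nil =>
      intro xs _
      rw [show lsmul (emb (lin [] xs)) (vec w) = 0 by funext i; simp [lin, emb_zero, lsmul]]
      exact zero_mem mapped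
    | cons n ms ih =>
      intro xs hxs
      cases xs with
      | nil =>
        rw [show lsmul (emb (lin (n :: ms) [])) (vec w) = 0 by funext i; simp [lin, emb_zero, lsmul]]
        exact zero_mem mapped
      | cons x xs =>
        have e : lsmul (emb (lin (n :: ms) (x :: xs))) (vec w) =
            n • lsmul (emb x) (vec w) + lsmul (emb (lin ms xs)) (vec w) := by
          funext i
          simp only [lin, emb_add, emb_smul, Int.cast_smul_eq_zsmul, lsmul, Pi.add_apply, Pi.smul_apply, add_mul,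
            smul_mul_assoc]
        rw [e]
        exact add_mem (zsmul_mem (hxs x List.mem_cons_self) n) (ih xs fun y hy => hxs y (List.mem_cons_of_mem _ hy))
  refine key ns bas fun x hx => ?_
  have h := List.all_eq_true.1 (List.all_eq_true.1 gens_mapped_chk w hw) x hx
  rw [Bool.and_eq_true] at h
  rw [← vec_lsT h.1]
  exact mapped_of_chk h.2

theorem ico_mapped {v : Fin 3 → ℍ[ℝ]} (hv : v ∈ icoLeech) : v ∈ mapped := by
  obtain ⟨a, b, c, d, ha, hb, hc, hd, rfl⟩ := lam_decomp hv
  exact add_mem (add_mem (add_mem (gen_mapped (by simp [wgen]) ha) (gen_mapped (by simp [wgen]) hb))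
    (gen_mapped (by simp [wgen]) hc)) (gen_mapped (by simp [wgen]) hd)

/-- The map to the rank 24 lattice. -/
def phi (x : icoLeech) : leechLattice :=
  ⟨(ico_mapped x.2).choose_spec.choose, (ico_mapped x.2).choose_spec.choose_spec.2.1⟩

theorem phi_spec {x : icoLeech} {t : T3} (h : (x : Fin 3 → ℍ[ℝ]) = vec t) : img t = (8 : ℤ) • (phi x : Vec) := by
  obtain ⟨h1, -, h3⟩ := (ico_mapped x.2).choose_spec.choose_spec
  rw [← vec_inj (h1.symm.trans h)]
  exact h3

theorem exists_triple (x : icoLeech) : ∃ t, (x : Fin 3 → ℍ[ℝ]) = vec t :=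
  ⟨_, (ico_mapped x.2).choose_spec.choose_spec.1⟩

theorem eight_inj {u v : Vec} (h : (8 : ℤ) • u = (8 : ℤ) • v) : u = v :=
  funext fun p => by have := congrFun h p; simp at this; exact this

theorem phi_add {x y z : icoLeech} (h : (z : Fin 3 → ℍ[ℝ]) = (x : Fin 3 → ℍ[ℝ]) + (y : Fin 3 → ℍ[ℝ])) :
    phi z = phi x + phi y := by
  obtain ⟨s, hs⟩ := exists_triple x
  obtain ⟨t, ht⟩ := exists_triple y
  have e : (z : Fin 3 → ℍ[ℝ]) = vec (tadd s t) := by rw [vec_tadd, h, hs, ht]
  refine Subtype.ext (eight_inj ?_)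
  rw [← phi_spec e, img_tadd, phi_spec hs, phi_spec ht, AddSubgroup.coe_add, smul_add]

theorem phi_norm {x : icoLeech} {t : T3} (h : (x : Fin 3 → ℍ[ℝ]) = vec t) :
    2 * sqNorm (phi x : Vec) = tnorm t := by
  have e := norm_img t
  rw [phi_spec h] at e
  have : sqNorm ((8 : ℤ) • (phi x : Vec)) = 64 * sqNorm (phi x : Vec) := by
    simp only [sqNorm, Finset.mul_sum]
    exact Finset.sum_congr rfl fun p _ => by simp; ring
  omega

theorem phi_norm_congr {x y : icoLeech}
    (h : qip (x : Fin 3 → ℍ[ℝ]) x = qip (y : Fin 3 → ℍ[ℝ]) y) :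
    sqNorm (phi x : Vec) = sqNorm (phi y : Vec) := by
  obtain ⟨s, hs⟩ := exists_triple x
  obtain ⟨t, ht⟩ := exists_triple y
  have e : qipRaw s s = qipRaw t t := emb_inj (by rw [emb_qipRaw, emb_qipRaw, ← hs, ← ht, h])
  have h1 := phi_norm hs
  have h2 := phi_norm ht
  rw [tnorm, e] at h1
  rw [tnorm] at h2
  omega

theorem phi_injective : Function.Injective phi := fun x y h => by
  obtain ⟨s, hs⟩ := exists_triple x
  obtain ⟨t, ht⟩ := exists_triple y
  refine Subtype.ext ?_
  rw [hs, ht, img_inj ((phi_spec hs).trans (h ▸ (phi_spec ht).symm))]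

/-- Integer combination of triples. -/
def combT : List ℤ → List T3 → T3
  | n :: ns, t :: ts => tadd (tsmul n t) (combT ns ts)
  | _, _ => tzero

/-- The 32 products. -/
def gensT : List T3 := wgen.flatMap fun w => bas.map fun b => lsT b w

theorem gensT_mem : ∀ t ∈ gensT, vec t ∈ icoLeech := by
  intro t ht
  simp only [gensT, List.mem_flatMap, List.mem_map] at ht
  obtain ⟨w, hw, b, hb, rfl⟩ := ht
  have h := List.all_eq_true.1 (List.all_eq_true.1 gens_mapped_chk w hw) b hb
  rw [Bool.and_eq_true] at h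
  rw [vec_lsT h.1]
  refine lam_smul ?_ (wgen_mem w hw)
  obtain ⟨i, hi, rfl⟩ := List.getElem_of_mem hb
  rw [← List.getD_eq_getElem _ qzero]
  exact inI_bas hi

theorem combT_mem : ∀ (ns : List ℤ) (ts : List T3), (∀ t ∈ ts, vec t ∈ icoLeech) → vec (combT ns ts) ∈ icoLeech
  | [], _, _ => by
    rw [show vec (combT [] _) = 0 by funext i; fin_cases i <;> simp [combT, vec, tzero, emb_zero]]; exact lam_zero
  | _ :: _, [], _ => by
    rw [show vec (combT _ []) = 0 by funext i; fin_cases i <;> simp [combT, vec, tzero, emb_zero]]; exact lam_zero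
  | n :: ns, t :: ts, h => by
    rw [combT, vec_tadd, vec_tsmul]
    exact lam_add (lam_smul (intCast_mem icosians n) (h t List.mem_cons_self))
      (combT_mem ns ts fun s hs => h s (List.mem_cons_of_mem _ hs))

/-- The preimage of a generator. -/
def preim (k : ℕ) : T3 := combT (preT.getD k []) gensT

theorem pre_twos : ∀ k < 12, ∀ p, img (preim k) p = 8 * twos (Golay.basis.getD k 0) p := by decide +kernel

theorem pre_fours_pos : ∀ i : ZMod 23, ∀ p, img (preim (12 + 2 * i.val)) p = 8 * fours i 4 p := by decide +kernel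

theorem pre_fours_neg : ∀ i : ZMod 23, ∀ p, img (preim (13 + 2 * i.val)) p = 8 * fours i (-4) p := by decide +kernel

theorem pre_odd : ∀ p, img (preim 58) p = 8 * oddGen p := by decide +kernel

/-- The image as a subgroup. -/
def imgGroup : AddSubgroup Vec where
  carrier := {y | ∃ x : icoLeech, (phi x : Vec) = y}
  zero_mem' := ⟨⟨0, lam_zero⟩, by
    have h : phi ⟨0, lam_zero⟩ = phi ⟨0, lam_zero⟩ + phi ⟨0, lam_zero⟩ := phi_add (add_zero _).symm
    rw [left_eq_add] at h
    rw [h]; rfl⟩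
  add_mem' := by
    rintro a b ⟨x, rfl⟩ ⟨y, rfl⟩
    exact ⟨⟨_, lam_add x.2 y.2⟩, by rw [phi_add (z := ⟨_, lam_add x.2 y.2⟩) rfl]; rfl⟩
  neg_mem' := by
    rintro a ⟨x, rfl⟩
    obtain ⟨t, ht⟩ := exists_triple x
    have hm : vec (tsmul (-1) t) ∈ icoLeech := by
      rw [vec_tsmul, ← ht]; exact lam_smul (intCast_mem icosians _) x.2
    refine ⟨⟨_, hm⟩, eight_inj ?_⟩
    rw [← phi_spec (x := ⟨_, hm⟩) (t := tsmul (-1) t) rfl, img_tsmul, phi_spec ht, smul_neg, neg_one_zsmul]

theorem mem_imgGroup_of_pre {k : ℕ} {y : Vec} (h : ∀ p, img (preim k) p = 8 * y p) : y ∈ imgGroup := by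
  have hm : vec (preim k) ∈ icoLeech := combT_mem _ _ gensT_mem
  refine ⟨⟨_, hm⟩, eight_inj ?_⟩
  rw [← phi_spec (x := ⟨_, hm⟩) (t := preim k) rfl]
  exact funext h

theorem phi_surjective : Function.Surjective phi := fun y => by
  have h : leechLattice ≤ imgGroup := by
    refine le_of_gens (fun b hb => ?_) (fun i s hs => ?_) (mem_imgGroup_of_pre pre_odd)
    · obtain ⟨k, hk, rfl⟩ := List.getElem_of_mem hb
      have hl : k < 12 := hk
      refine mem_imgGroup_of_pre (k := k) fun p => ?_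
      rw [pre_twos k hl p, List.getD_eq_getElem _ _ hk]
    · rcases hs with rfl | rfl
      · exact mem_imgGroup_of_pre (pre_fours_pos i)
      · exact mem_imgGroup_of_pre (pre_fours_neg i)
  obtain ⟨x, hx⟩ := h y.2
  exact ⟨x, Subtype.ext hx⟩

/-- The isometry. -/
def phiE : icoLeech ≃ leechLattice := Equiv.ofBijective phi ⟨phi_injective, phi_surjective⟩

theorem phiE_apply (x : icoLeech) : phiE x = phi x := rfl

/-- A triple whose image is eight times a lattice vector gives a point of the icosian lattice. -/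
theorem mem_of_img {t : T3} {y : leechLattice} (h : img t = (8 : ℤ) • (y : Vec)) :
    ∃ x : icoLeech, (x : Fin 3 → ℍ[ℝ]) = vec t ∧ phi x = y := by
  obtain ⟨x, rfl⟩ := phi_surjective y
  obtain ⟨s, hs⟩ := exists_triple x
  obtain rfl : t = s := img_inj (h.trans (phi_spec hs).symm)
  exact ⟨x, hs, rfl⟩

end Cfsg.Agent.Spor.CoJ2

end
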