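import Mathlib
import Cfsg.Prelude.Def_Spor_J2
import Cfsg.Agent.Lib.Spor.J2.Fusion
import Cfsg.Agent.Lib.Invol.HJ.Base
import Cfsg.Agent.Lib.Fus.CharTwo
import Cfsg.Agent.Lib.Grp.Cores

/-! The Hall–Janko group satisfies the large extraspecial hypothesis. -/

set_option autoImplicit false

noncomputable section

namespace Cfsg.Agent.Spor.CoJ2

open Cfsg Cfsg.Spor Cfsg.Agent.J2Cert

theorem zJ_order : orderOf zJ = 2 := by
  have h3 : qM (3 : Fin 32) (3 : Fin 32) = 0 := by decide +kernel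
  have h : qk 3 * qk 3 = 1 := by
    rw [qk_mul, ← qk_zero]
    exact congrArg qk (Fin.ext h3)
  refine orderOf_eq_prime ?_ ?_
  · rw [pow_two, zJ_eq]
    exact congrArg (fun y : phi.ker => ((y : Cz) : J2)) h
  · intro e
    rw [zJ_eq, ← qJ_zero] at e
    have : (3 : Fin 32) = 0 := qk_inj (Subtype.ext (Subtype.ext e))
    exact absurd this (by decide)

theorem gfit_Cz : generalizedFittingSubgroup Cz = phi.ker := by
  haveI : Fact (Nat.Prime 2) := ⟨Nat.prime_two⟩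
  haveI : IsSimpleGroup A5 := alternatingGroup.isSimpleGroup_five
  have hle : phi.ker ≤ Cfsg.pCore 2 Cz := le_sSup ⟨inferInstance, IsPGroup.of_card (n := 5) (by rw [card_ker]; norm_num)⟩
  have hge : Cfsg.pCore 2 Cz ≤ phi.ker := by
    have hN : ((Cfsg.pCore 2 Cz).map phi).Normal :=
      (Grp.pCore_isNormal : (Cfsg.pCore 2 Cz).Normal).map _ phi_surj
    rcases hN.eq_bot_or_eq_top with h | h
    · intro x hx
      have hm : phi x ∈ (Cfsg.pCore 2 Cz).map phi := ⟨x, hx, rfl⟩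
      rw [h, Subgroup.mem_bot] at hm
      exact hm
    · exfalso
      obtain ⟨k, hk⟩ := ((Grp.pCore_isPGroup (p := 2) (G := Cz)).map phi).exists_card_eq
      have hA : Nat.card A5 = 60 := by
        rw [nat_card_alternatingGroup, Nat.card_fin]; rfl
      rw [h, Subgroup.card_top, hA] at hk
      exact absurd (Nat.Prime.dvd_of_dvd_pow (p := 3) (by norm_num) (hk ▸ by norm_num : 3 ∣ 2 ^ k)) (by norm_num)
  have he : Cfsg.pCore 2 Cz = phi.ker := le_antisymm hge hle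
  rw [Fus.generalizedFittingSubgroup_eq_of_charP (p := 2) (by
    show Subgroup.centralizer (Cfsg.pCore 2 Cz : Set Cz) ≤ Cfsg.pCore 2 Cz
    rw [he]
    intro c hc
    obtain ⟨d, hd, e⟩ := centralizer_Q0 (Subgroup.mem_centralizer_iff.2 (fun q hq => by
      obtain ⟨d, hd, rfl⟩ := hq
      exact congrArg Subtype.val (Subgroup.mem_centralizer_iff.1 hc d hd)) : (c : J2) ∈ Subgroup.centralizer (Q0 : Set J2))
    exact (Subtype.ext e : d = c) ▸ hd), he]

theorem j2_large : ∃ z : J2, orderOf z = 2 ∧ ∃ (Q : Subgroup (Subgroup.centralizer ({z} : Set J2))) (_ : Q.Normal),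
    Cfsg.generalizedFittingSubgroup (Subgroup.centralizer ({z} : Set J2)) = Q ∧ Cfsg.IsExtraspecial 2 Q ∧
    Nat.card Q = 2 ^ 5 ∧
    Nonempty ((Subgroup.centralizer ({z} : Set J2)) ⧸ Q ≃* Cfsg.Omega (ZMod 2) (Cfsg.quadFormMinus 1 (ZMod 2) 1 1)) ∧
    ∃ g : J2, (∃ hq : g * z * g⁻¹ ∈ Subgroup.centralizer ({z} : Set J2),
      (⟨g * z * g⁻¹, hq⟩ : Subgroup.centralizer ({z} : Set J2)) ∈ Q) ∧ g * z * g⁻¹ ≠ z := by
  refine ⟨zJ, zJ_order, phi.ker, inferInstance, gfit_Cz, extraspecial_ker, by rw [card_ker]; norm_num, ?_, ?_⟩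
  · obtain ⟨e5⟩ := Invol.HJ.omega_minus_four
    exact ⟨(QuotientGroup.quotientKerEquivOfSurjective phi phi_surj).trans e5.symm⟩
  · obtain ⟨k, a, ha, hk⟩ := refl_row (t := 0) (by norm_num)
    have hq : eJ k * zJ * (eJ k)⁻¹ ∈ Cz := by rw [hk]; exact (qk a : Cz).2
    refine ⟨eJ k, ⟨hq, ?_⟩, fun e => ?_⟩
    · rw [show (⟨eJ k * zJ * (eJ k)⁻¹, hq⟩ : Cz) = (qk a : Cz) from Subtype.ext hk]
      exact (qk a).2
    · rw [hk, zJ_eq] at e
      have h := congrArg Fin.val (qk_inj (Subtype.ext (Subtype.ext e)) : a = 3)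
      rw [ha] at h
      revert h
      decide +kernel

end Cfsg.Agent.Spor.CoJ2

end
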