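import Cfsg.Agent.Lib.Spor.CoJ2.Bound
import Cfsg.Agent.Lib.Spor.Leech.Monomial
import Cfsg.Agent.Lib.Spor.J2.Structure

/-!
In the automorphism group of the rank 24 lattice some element of order five has centraliser a direct product of the
group it generates with the icosian reflection group.
-/

set_option autoImplicit false
set_option maxRecDepth 100000

noncomputable section

namespace Cfsg.Agent.Spor.CoJ2

open Quaternion Cfsg Cfsg.Spor Cfsg.Agent.J2Cert Cfsg.Agent.Spor.Leech

theorem uFive_unit : ∃ i < 120, units.getD i qzero = uFive := by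
  have h : (List.range 120).any (fun i => qeq (units.getD i qzero) uFive) = true := by decide +kernel
  obtain ⟨i, hi, e⟩ := List.any_eq_true.1 h
  exact ⟨i, List.mem_range.1 hi, qeq_eq e⟩

/-- The scalar of order five. -/
def qu : ℍ[ℝ] := emb uFive

theorem qu_facts : qu ∈ icosians ∧ star qu ∈ icosians ∧ star qu * qu = 1 ∧ qu * star qu = 1 := by
  obtain ⟨i, hi, e⟩ := uFive_unit
  obtain ⟨j, hj, e'⟩ := star_uq hi
  have hq : qu = uq i := by rw [qu, ← e]; rfl
  exact ⟨hq ▸ uq_mem hi, hq ▸ e' ▸ uq_mem hj, hq ▸ star_uq_mul hi, hq ▸ uq_mul_star hi⟩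

theorem qu_pow_chk : (qeq (qmul uFive (qmul uFive (qmul uFive (qmul uFive uFive)))) qone && mulOK uFive uFive &&
    mulOK uFive (qmul uFive uFive) && mulOK uFive (qmul uFive (qmul uFive uFive)) &&
    mulOK uFive (qmul uFive (qmul uFive (qmul uFive uFive)))) = true := by decide +kernel

theorem qu_pow : qu * (qu * (qu * (qu * qu))) = 1 := by
  have h := qu_pow_chk
  simp only [Bool.and_eq_true] at h
  simp only [qu]
  rw [← emb_mul h.1.1.1.2, ← emb_mul h.1.1.2, ← emb_mul h.1.2, ← emb_mul h.2, qeq_eq h.1.1.1.1, emb_one]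

/-- Multiplication by the scalar. -/
def aP : Equiv.Perm icoLeech where
  toFun x := ⟨lsmul qu x, lam_smul qu_facts.1 x.2⟩
  invFun x := ⟨lsmul (star qu) x, lam_smul qu_facts.2.1 x.2⟩
  left_inv x := Subtype.ext (by dsimp only; rw [lsmul_lsmul, qu_facts.2.2.1, lsmul_one])
  right_inv x := Subtype.ext (by dsimp only; rw [lsmul_lsmul, qu_facts.2.2.2, lsmul_one])

theorem aP_apply (x : icoLeech) : (aP x : Fin 3 → ℍ[ℝ]) = lsmul qu x := rfl

theorem aP_pow : aP ^ 5 = 1 := by
  refine Equiv.ext fun x => Subtype.ext ?_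
  show lsmul qu (lsmul qu (lsmul qu (lsmul qu (lsmul qu x)))) = (x : Fin 3 → ℍ[ℝ])
  simp only [lsmul_lsmul]
  rw [qu_pow, lsmul_one]

/-- Transport of permutations. -/
def conjP : Equiv.Perm icoLeech →* Equiv.Perm leechLattice := phiE.permCongrHom.toMonoidHom

theorem conjP_phi (f : Equiv.Perm icoLeech) (x : icoLeech) : conjP f (phi x) = phi (f x) := by
  show phiE (f (phiE.symm (phiE x))) = _
  rw [Equiv.symm_apply_apply, phiE_apply]

theorem conjP_injective : Function.Injective conjP := phiE.permCongrHom.injective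

theorem conjP_mem {f : Equiv.Perm icoLeech}
    (hadd : ∀ x y z : icoLeech, (z : Fin 3 → ℍ[ℝ]) = (x : Fin 3 → ℍ[ℝ]) + y → (f z : Fin 3 → ℍ[ℝ]) = (f x : Fin 3 → ℍ[ℝ]) + f y)
    (hn : ∀ x : icoLeech, qip (f x : Fin 3 → ℍ[ℝ]) (f x) = qip (x : Fin 3 → ℍ[ℝ]) x) : conjP f ∈ Co0 := by
  refine ⟨fun v w => ?_, fun v => ?_⟩
  · obtain ⟨x, rfl⟩ := phi_surjective v
    obtain ⟨y, rfl⟩ := phi_surjective w
    let z : icoLeech := ⟨_, lam_add x.2 y.2⟩
    rw [← phi_add (x := x) (y := y) (z := z) rfl, conjP_phi, conjP_phi, conjP_phi]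
    exact phi_add (hadd x y z rfl)
  · obtain ⟨x, rfl⟩ := phi_surjective v
    rw [conjP_phi]
    exact phi_norm_congr (hn x)

theorem qip_self_real (x : Fin 3 → ℍ[ℝ]) :
    qip x x = ((normSq (x 0) + normSq (x 1) + normSq (x 2) : ℝ) : ℍ[ℝ]) := by
  simp [qip, Fin.sum_univ_three, Quaternion.self_mul_star]

theorem aP_mem : conjP aP ∈ Co0 := by
  refine conjP_mem (fun x y z h => ?_) (fun x => ?_)
  · rw [aP_apply, aP_apply, aP_apply, h]; funext t; simp [lsmul, mul_add]
  · rw [aP_apply, qip_lsmul, ← qip_star (lsmul qu x) x, qip_lsmul, star_mul, qip_star, qip_self_real, ← mul_assoc,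
      ← Quaternion.coe_commutes, mul_assoc, qu_facts.2.2.2, mul_one]

/-- The element of order five. -/
def aC : Co0 := ⟨conjP aP, aP_mem⟩

theorem twoJ2_le : twoJ2 ≤ (Co0 ⊓ Subgroup.centralizer {conjP aP}).comap conjP := by
  refine (Subgroup.closure_le _).2 fun f ⟨r, hr, hf⟩ => ⟨conjP_mem (fun x y z h => ?_) (fun x => ?_), ?_⟩
  · rw [hf, hf, hf, qrefl_eq, qrefl_eq, qrefl_eq, h, lmap_add]
  · rw [hf, qip_qrefl hr]
  · refine Subgroup.mem_centralizer_singleton_iff.2 ?_
    rw [← map_mul, ← map_mul]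
    refine congrArg conjP (Equiv.ext fun x => Subtype.ext ?_)
    rw [Equiv.Perm.mul_apply, Equiv.Perm.mul_apply, hf, aP_apply, aP_apply, hf, qrefl_eq, qrefl_eq, lmap_smul]

/-- The image of the reflection group. -/
def theta : twoJ2 →* Co0 where
  toFun g := ⟨conjP (g : Equiv.Perm icoLeech), (twoJ2_le g.2).1⟩
  map_one' := Subtype.ext (map_one conjP)
  map_mul' g h := Subtype.ext (map_mul conjP (g : Equiv.Perm icoLeech) (h : Equiv.Perm icoLeech))

theorem theta_injective : Function.Injective theta := fun g h e =>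
  Subtype.ext (conjP_injective (congrArg Subtype.val e))

theorem theta_comm (g : twoJ2) : theta g * aC = aC * theta g :=
  Subtype.ext (Subgroup.mem_centralizer_singleton_iff.1 (twoJ2_le g.2).2)

theorem aC_pow : aC ^ 5 = 1 := Subtype.ext (by
  show conjP aP ^ 5 = 1
  rw [← map_pow, aP_pow, map_one])

theorem theta_negG : theta negG = negCo := by
  refine Subtype.ext (Equiv.ext fun v => ?_)
  obtain ⟨x, rfl⟩ := phi_surjective v
  show conjP (negG : Equiv.Perm icoLeech) (phi x) = negCo • phi x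
  rw [negCo_apply, conjP_phi]
  refine (eq_neg_of_add_eq_zero_left ?_)
  rw [← phi_add (z := (⟨0, lam_zero⟩ : icoLeech)) (by rw [negG_apply]; exact (neg_add_cancel _).symm)]
  have h : phi ⟨0, lam_zero⟩ = phi ⟨0, lam_zero⟩ + phi ⟨0, lam_zero⟩ := phi_add (add_zero _).symm
  rwa [left_eq_add] at h

/-- Preimages of the chosen points. -/
def seed (j : ℕ) : T3 :=
  ⟨(seedT.getD j (qzero, qzero, qzero)).1, (seedT.getD j (qzero, qzero, qzero)).2.1,
    (seedT.getD j (qzero, qzero, qzero)).2.2⟩

/-- Preimages of the orbits of the chosen points. -/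
def seedO (j : ℕ) : ℕ → T3
  | 0 => seed j
  | i + 1 => lsT uFive (seedO j i)

theorem seed_chk : ((List.range 6).all fun j => ((List.range 3).all fun i => lsOK uFive (seedO j i)) &&
    (List.range 4).all fun i => (List.range 24).all fun k =>
      decide (rowDot (matT.getD k []) (flatT (seedO j i)) = 8 * (orbL j i).getD k 0)) = true := by decide +kernel

theorem img_seed (j : Fin 6) (i : Fin 4) : img (seedO j i) = (8 : ℤ) • (pnt j i : Vec) := funext fun p => by
  have h := List.all_eq_true.1 seed_chk j (List.mem_range.2 j.2)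
  simp only [Bool.and_eq_true, List.all_eq_true, List.mem_range, decide_eq_true_eq] at h
  exact h.2 i i.2 _ (Golay.idx_lt p)

theorem aC_pnt (j : Fin 6) (i : Fin 3) : aC • pnt j i.castSucc = pnt j i.succ := by
  obtain ⟨x, hx, e⟩ := mem_of_img (img_seed j i.castSucc)
  have h := List.all_eq_true.1 seed_chk j (List.mem_range.2 j.2)
  simp only [Bool.and_eq_true, List.all_eq_true, List.mem_range] at h
  rw [← e]
  show conjP aP (phi x) = _
  rw [conjP_phi]
  refine Subtype.ext (eight_inj ?_)
  rw [← phi_spec (t := seedO j (i.succ : Fin 4)) (by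
    rw [aP_apply, hx, Fin.val_succ, seedO, vec_lsT (h.1 i i.2), Fin.val_castSucc]; rfl)]
  exact img_seed j i.succ

theorem aC_ne : aC ≠ 1 := fun e => by
  have h := aC_pnt 0 0
  rw [e, one_smul] at h
  have : ofList (orbL 0 0) ≠ ofList (orbL 0 1) := fun e' => absurd (congrFun e' none) (by decide +kernel)
  exact this (congrArg Subtype.val h)

theorem aC_order : orderOf aC = 5 :=
  haveI : Fact (Nat.Prime 5) := ⟨by norm_num⟩
  orderOf_eq_prime aC_pow aC_ne

/-- The group of order five. -/
def A : Subgroup Co0 := Subgroup.zpowers aC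

theorem card_A : Nat.card A = 5 := by rw [A, Nat.card_zpowers, aC_order]

/-- Its centraliser. -/
abbrev CA : Subgroup Co0 := Subgroup.centralizer (A : Set Co0)

theorem comm_A {a : Co0} (ha : a ∈ A) (g : twoJ2) : theta g * a = a * theta g := by
  obtain ⟨n, rfl⟩ := Subgroup.mem_zpowers_iff.1 ha
  exact (Commute.zpow_right (show Commute (theta g) aC from theta_comm g) n).eq

/-- The product map. -/
def psiC : ↥A × twoJ2 →* CA where
  toFun p := ⟨(p.1 : Co0) * theta p.2, Subgroup.mem_centralizer_iff.2 fun a ha => by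
    have h1 : a * (p.1 : Co0) = (p.1 : Co0) * a := by
      obtain ⟨m, rfl⟩ := Subgroup.mem_zpowers_iff.1 ha
      obtain ⟨n, hn⟩ := Subgroup.mem_zpowers_iff.1 p.1.2
      rw [← hn]
      exact zpow_mul_comm aC m n
    rw [← mul_assoc, h1, mul_assoc, ← comm_A ha, mul_assoc]⟩
  map_one' := Subtype.ext (by simp)
  map_mul' p q := Subtype.ext (by
    simp only [Prod.fst_mul, Prod.snd_mul, Subgroup.coe_mul, map_mul]
    rw [mul_assoc, mul_assoc, ← mul_assoc (q.1 : Co0), ← comm_A q.1.2]
    simp only [mul_assoc])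

theorem psiC_injective : Function.Injective psiC := by
  refine (injective_iff_map_eq_one _).2 fun ⟨a, g⟩ h => ?_
  have h' : (a : Co0) * theta g = 1 := congrArg Subtype.val h
  have e : theta g = (a : Co0)⁻¹ := eq_inv_of_mul_eq_one_right h'
  have hg5 : g ^ 5 = 1 := theta_injective (by
    rw [map_pow, e, map_one, inv_pow]
    have := pow_card_eq_one' (x := a)
    rw [card_A] at this
    rw [← Subgroup.coe_pow, this, Subgroup.coe_one, inv_one])
  have hgc : g ∈ Subgroup.center twoJ2 := Subgroup.mem_center_iff.2 fun k => theta_injective (by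
    rw [map_mul, map_mul, e, comm_A (inv_mem a.2) k])
  have hg2 : g ^ 2 = 1 := by
    rcases (center_eq g).1 hgc with rfl | rfl
    · exact one_pow 2
    · have := pow_card_eq_one' (x := (⟨negG, negG_central⟩ : Subgroup.center twoJ2))
      rw [J2Cert.card_center] at this
      exact congrArg Subtype.val this
  have g1 : g = 1 := by
    calc g = g ^ 5 * ((g ^ 2) ^ 2)⁻¹ := by rw [← pow_mul, pow_succ' g 4]; group
      _ = 1 := by rw [hg5, hg2]; simp
  subst g1
  rw [map_one, mul_one] at h'
  exact Prod.ext (Subtype.ext h') rfl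

instance finite_Co0' : Finite Co0 := Nat.finite_of_card_ne_zero (by rw [card_Co0]; norm_num)

theorem psiC_bijective : Function.Bijective psiC := by
  haveI : Finite twoJ2 := Finite.of_injective theta theta_injective
  refine ⟨psiC_injective, MonoidHom.range_eq_top.1 (Subgroup.eq_top_of_card_eq _ ?_)⟩
  have h1 : Nat.card psiC.range = 6048000 := by
    rw [← Nat.card_congr (MonoidHom.ofInjective psiC_injective).toEquiv, Nat.card_prod, card_A, card_twoJ2]
  have h2 : Nat.card psiC.range ∣ Nat.card CA := Subgroup.card_subgroup_dvd_card _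
  have h3 : Nat.card CA ≤ 196560 * (25 * (2 * 1)) :=
    card_centralizer_le (fun g hg => Subgroup.mem_centralizer_iff.1 hg aC (Subgroup.mem_zpowers aC)) aC_pnt
  obtain ⟨k, hk⟩ := h2
  rw [h1] at hk ⊢
  have h0 : Nat.card CA ≠ 0 := Nat.card_pos.ne'
  omega

/-- The centraliser as a product. -/
def psiE : ↥A × twoJ2 ≃* CA := MulEquiv.ofBijective psiC psiC_bijective

/-- The map onto the simple group. -/
def chi : CA →* J2 := (QuotientGroup.mk' (Subgroup.center twoJ2)).comp ((MonoidHom.snd A twoJ2).comp psiE.symm.toMonoidHom)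

theorem chi_psi (p : ↥A × twoJ2) : chi (psiC p) = QuotientGroup.mk p.2 := by
  show QuotientGroup.mk (psiE.symm (psiE p)).2 = _
  rw [MulEquiv.symm_apply_apply]

theorem chi_surjective : Function.Surjective chi := fun q => by
  obtain ⟨g, rfl⟩ := QuotientGroup.mk_surjective q
  exact ⟨psiC (1, g), chi_psi _⟩

theorem ker_chi : chi.ker = (A ⊔ Subgroup.center ↥Co0).subgroupOf CA := by
  ext c
  obtain ⟨⟨a, g⟩, rfl⟩ := psiC_bijective.2 c
  rw [MonoidHom.mem_ker, chi_psi, QuotientGroup.eq_one_iff, Subgroup.mem_subgroupOf]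
  show g ∈ Subgroup.center twoJ2 ↔ (a : Co0) * theta g ∈ A ⊔ Subgroup.center ↥Co0
  constructor
  · intro hg
    refine mul_mem (Subgroup.mem_sup_left a.2) (Subgroup.mem_sup_right ?_)
    rcases (center_eq g).1 hg with rfl | rfl
    · rw [map_one]; exact one_mem _
    · rw [theta_negG]; exact mem_center_iff.2 (Or.inr rfl)
  · intro h
    have hle : A ⊔ Subgroup.center ↥Co0 ≤ Subgroup.centralizer (Set.range theta) := sup_le
      (fun x hx => Subgroup.mem_centralizer_iff.2 (by rintro _ ⟨k, rfl⟩; exact comm_A hx k))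
      (fun x hx => Subgroup.mem_centralizer_iff.2 fun y _ => Subgroup.mem_center_iff.1 hx y)
    refine Subgroup.mem_center_iff.2 fun k => theta_injective ?_
    have h' := Subgroup.mem_centralizer_iff.1 (hle h) (theta k) ⟨k, rfl⟩
    rw [← mul_assoc, comm_A a.2 k, mul_assoc, mul_assoc] at h'
    rw [map_mul, map_mul]
    exact mul_left_cancel h'

end Cfsg.Agent.Spor.CoJ2

end
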